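import Groth.Agent.ResProp.EF.K624.Nodes
import Groth.Agent.ResProp.EF.K785.Nat

/-!
# J10a, reduction modulo `p` of modules over an admissible group (captain helper624)

`E.O` is free, so there is a `k`-linear `s : E.O → H.O` with `IsNat (a - ι (s a))`; modulo `p` it is the ring map
`σ : E.O → H.O/p` of the zero section.  `Redn s V M π`: the `H`-module `M` is the reduction modulo `p` of the `E`-module `V`.
-/

set_option autoImplicit false
set_option linter.style.haveILetI false

universe u

open TensorProduct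

noncomputable section

namespace Groth.Agent.ResProp.EF.K40

open Groth.Agent.ResProp.EF.Grp Groth.Agent.ResProp.EF.K624 Groth.Agent.ResProp.EF.K785

variable {k : Type u} [CommRing k]

/-! ### divisibility by `p` -/

section Dv

variable (k) (p : ℕ)

/-- `x` is divisible by `p` -/
def Dv {N : Type*} [AddCommGroup N] [Module k N] (x : N) : Prop := ∃ z : N, x = (p : k) • z

variable {k} {p}
variable {N N' : Type*} [AddCommGroup N] [Module k N] [AddCommGroup N'] [Module k N']

lemma Dv.zero : Dv k p (0 : N) := ⟨0, by simp⟩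

lemma Dv.add {x y : N} (hx : Dv k p x) (hy : Dv k p y) : Dv k p (x + y) := by
  obtain ⟨a, rfl⟩ := hx
  obtain ⟨b, rfl⟩ := hy
  exact ⟨a + b, by simp⟩

lemma Dv.neg {x : N} (hx : Dv k p x) : Dv k p (-x) := by
  obtain ⟨a, rfl⟩ := hx
  exact ⟨-a, by simp⟩

lemma Dv.sub {x y : N} (hx : Dv k p x) (hy : Dv k p y) : Dv k p (x - y) := by
  rw [sub_eq_add_neg]; exact hx.add hy.neg

lemma Dv.map {x : N} (hx : Dv k p x) (f : N →ₗ[k] N') : Dv k p (f x) := by
  obtain ⟨a, rfl⟩ := hx
  exact ⟨f a, by simp⟩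

lemma dv_iff {A : Type*} [CommRing A] [Algebra k A] {x : A} : Dv k p x ↔ (p : A) ∣ x := by
  constructor
  · rintro ⟨z, rfl⟩
    exact ⟨z, by rw [Algebra.smul_def, map_natCast]⟩
  · rintro ⟨z, rfl⟩
    exact ⟨z, by rw [Algebra.smul_def, map_natCast]⟩

lemma Dv.mul_left {A : Type*} [CommRing A] [Algebra k A] {x : A} (hx : Dv k p x) (y : A) :
    Dv k p (y * x) := by
  rw [dv_iff] at hx ⊢; exact hx.mul_left y

lemma Dv.mul_right {A : Type*} [CommRing A] [Algebra k A] {x : A} (hx : Dv k p x) (y : A) :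
    Dv k p (x * y) := by
  rw [dv_iff] at hx ⊢; exact hx.mul_right y

/-- `M` is killed by `p` -/
def Kd (k : Type*) [CommRing k] (p : ℕ) (M : Type*) [AddCommGroup M] [Module k M] : Prop :=
  ∀ m : M, (p : k) • m = 0

lemma Kd.tmul {M : Type*} [AddCommGroup M] [Module k M] (hM : Kd k p M) (m : M) {x : N}
    (hx : Dv k p x) : m ⊗ₜ[k] x = 0 := by
  obtain ⟨z, rfl⟩ := hx
  rw [← TensorProduct.smul_tmul, hM, TensorProduct.zero_tmul]

lemma Kd.tensor {M : Type*} [AddCommGroup M] [Module k M] (hM : Kd k p M) : Kd k p (M ⊗[k] N) := by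
  intro z
  induction z using TensorProduct.induction_on with
  | zero => simp
  | add x y hx hy => rw [smul_add, hx, hy, add_zero]
  | tmul m n => rw [TensorProduct.smul_tmul', hM, TensorProduct.zero_tmul]

lemma Kd.tmul_congr {M : Type*} [AddCommGroup M] [Module k M] (hM : Kd k p M) (m : M) {x y : N}
    (hx : Dv k p (x - y)) : m ⊗ₜ[k] x = m ⊗ₜ[k] y := by
  rw [← sub_eq_zero, ← TensorProduct.tmul_sub, hM.tmul m hx]

lemma Kd.map_congr {M M' : Type*} [AddCommGroup M] [Module k M] [AddCommGroup M'] [Module k M']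
    (hM : Kd k p M') (f : M →ₗ[k] M') (φ ψ : N →ₗ[k] N')
    (h : ∀ x, Dv k p (φ x - ψ x)) : TensorProduct.map f φ = TensorProduct.map f ψ := by
  ext m x
  exact hM.tmul_congr (f m) (h x)

end Dv

/-! ### `IsNat` -/

section Nat

lemma isNat_iff {A : Type u} [CommRing A] {a : A} : IsNat a ↔ a ∈ natI A := Iff.rfl

lemma isNat_add {A : Type u} [CommRing A] {a b : A} (ha : IsNat a) (hb : IsNat b) : IsNat (a + b) :=
  (natI A).add_mem ha hb

lemma isNat_neg {A : Type u} [CommRing A] {a : A} (ha : IsNat a) : IsNat (-a) :=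
  (natI A).neg_mem ha

lemma isNat_sub {A : Type u} [CommRing A] {a b : A} (ha : IsNat a) (hb : IsNat b) : IsNat (a - b) :=
  (natI A).sub_mem ha hb

lemma isNat_mul_left {A : Type u} [CommRing A] {b : A} (a : A) (hb : IsNat b) : IsNat (a * b) :=
  (natI A).mul_mem_left a hb

lemma isNat_mul_right {A : Type u} [CommRing A] {b : A} (a : A) (hb : IsNat b) : IsNat (b * a) :=
  (natI A).mul_mem_right a hb

lemma isNat_zero {A : Type u} [CommRing A] : IsNat (0 : A) := (natI A).zero_mem

lemma isNat_map {A B : Type u} [CommRing A] [CommRing B] (f : A →+* B) {a : A} (ha : IsNat a) :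
    IsNat (f a) := map_mem_natI f ha

variable {p : ℕ}

lemma isUnit_cast [h : IsLb p k] (A : Type u) [CommRing A] [Algebra k A] {n : ℕ} (hn : ¬ p ∣ n) :
    IsUnit (n : A) := by
  have hk : IsUnit (n : k) := by
    apply h.unit_of
    intro hd
    apply h.not_unit
    have hc : Nat.Coprime p n := (Nat.Prime.coprime_iff_not_dvd h.prime).2 hn
    have hb : (p : ℤ) * Nat.gcdA p n + n * Nat.gcdB p n = 1 := by
      rw [← Nat.gcd_eq_gcd_ab, hc.gcd_eq_one]; rfl
    have hb' := congrArg (fun z : ℤ => (z : k)) hb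
    push_cast at hb'
    apply isUnit_of_dvd_one
    rw [← hb']
    exact dvd_add (dvd_mul_right _ _) (hd.mul_right _)
  have := hk.map (algebraMap k A)
  rwa [map_natCast] at this

lemma isNat_dv [h : IsLb p k] {A : Type u} [CommRing A] [Algebra k A] {a : A} (ha : Dv k p a) :
    IsNat a := by
  haveI : Fact p.Prime := ⟨h.prime⟩
  obtain ⟨b, rfl⟩ := dv_iff.1 ha
  exact isNat_mul_right b (prime_mem_natI (A := A) p fun n hn => isUnit_cast (k := k) A hn)

lemma dvd_of_isNat_base [h : IsLb p k] {c : k} (hc : IsNat c) : Dv k p c := by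
  rw [dv_iff]
  by_contra hcon
  have hu := h.unit_of c hcon
  haveI : Fact p.Prime := ⟨h.prime⟩
  have := dvd_pow_of_mem p (a := c) hc
  exact h.not_unit (isUnit_of_dvd_unit this (hu.pow p))

end Nat

/-! ### the section `s` -/

section Sec

variable {p : ℕ} [IsLb p k] {H E : Gp k} (ι : H.O →ₐc[k] E.O)

/-- the linear map `s : E.O → H.O` -/
structure Sec (p : ℕ) (ι : H.O →ₐc[k] E.O) (s : E.O →ₗ[k] H.O) : Prop where
  nat : ∀ a, IsNat (a - ι (s a))
  d1 : ∀ x : H.O, IsNat (ι x) → Dv k p x
  d2 : ∀ w : H.O ⊗[k] H.O,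
    IsNat (Algebra.TensorProduct.map (ι : H.O →ₐ[k] E.O) (ι : H.O →ₐ[k] E.O) w) → Dv k p w

omit [IsLb p k] in
lemma exists_lin (h : Inv ι) : ∃ s : E.O →ₗ[k] H.O, ∀ a, IsNat (a - ι (s a)) := by
  classical
  obtain ⟨h1, -⟩ := h
  let b := Module.Free.chooseBasis k E.O
  choose g hg using h1
  refine ⟨b.constr k fun i => g (b i), fun a => ?_⟩
  have ha : a ∈ Submodule.span k (Set.range b) := b.mem_span a
  induction ha using Submodule.span_induction with
  | zero => simpa using (isNat_zero (A := E.O))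
  | add x y _ _ hx hy =>
    have : x + y - ι (b.constr k (fun i => g (b i)) (x + y)) =
        (x - ι (b.constr k (fun i => g (b i)) x)) + (y - ι (b.constr k (fun i => g (b i)) y)) := by
      rw [map_add, map_add]; ring
    rw [this]
    exact isNat_add hx hy
  | smul c x _ hx =>
    rw [map_smul, map_smul, ← smul_sub, Algebra.smul_def]
    exact isNat_mul_left _ hx
  | mem x hx =>
    obtain ⟨i, rfl⟩ := hx
    rw [Module.Basis.constr_basis]
    exact hg _

lemma exists_sec (h : Inv ι) (hR : RedModP p H) : ∃ s : E.O →ₗ[k] H.O, Sec p ι s := by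
  obtain ⟨s, hs⟩ := exists_lin ι h
  obtain ⟨-, r, hr⟩ := h
  haveI : Fact p.Prime := ⟨IsLb.prime k⟩
  refine ⟨s, hs, fun x hx => ?_, fun w hw => ?_⟩
  · have h1 := dvd_pow_of_mem p hx
    rw [dv_iff]
    refine hR.1 x ?_
    rw [← map_pow] at h1
    have h2 := (dv_iff (k := k)).2 h1
    have h3 := h2.map r
    rw [hr] at h3
    exact dv_iff.1 h3
  · have h1 := dvd_pow_of_mem p hw
    rw [dv_iff]
    refine hR.2.1 w ?_
    rw [← map_pow] at h1
    have h2 := (dv_iff (k := k)).2 h1
    have h3 := h2.map (TensorProduct.map r r)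
    have h4 : ∀ w : H.O ⊗[k] H.O, TensorProduct.map r r
        (Algebra.TensorProduct.map (ι : H.O →ₐ[k] E.O) (ι : H.O →ₐ[k] E.O) w) = w := by
      intro w
      induction w using TensorProduct.induction_on with
      | zero => simp
      | add x y hx hy => rw [map_add, map_add, hx, hy]
      | tmul x y =>
        rw [Algebra.TensorProduct.map_tmul, TensorProduct.map_tmul]
        congr 1
        · exact hr x
        · exact hr y
    rw [h4] at h3
    exact dv_iff.1 h3

namespace Sec

variable {ι} {s : E.O →ₗ[k] H.O} (S : Sec p ι s)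

include S

omit [IsLb p k] in
/-- `s (ι b) ≡ b` -/
lemma s_iota (b : H.O) : Dv k p (s (ι b) - b) := by
  apply S.d1
  have : ι (s (ι b) - b) = -(ι b - ι (s (ι b))) := by rw [map_sub]; ring
  rw [this]
  exact isNat_neg (S.nat _)

omit [IsLb p k] in
lemma s_one : Dv k p (s 1 - 1) := by
  have := S.s_iota 1
  rwa [map_one] at this

omit [IsLb p k] in
lemma s_mul (a b : E.O) : Dv k p (s (a * b) - s a * s b) := by
  apply S.d1
  have : ι (s (a * b) - s a * s b) =
      -(a * b - ι (s (a * b))) + ((a - ι (s a)) * b + ι (s a) * (b - ι (s b))) := by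
    rw [map_sub, map_mul ι (s a) (s b)]; ring
  rw [this]
  exact isNat_add (isNat_neg (S.nat _)) (isNat_add (isNat_mul_right _ (S.nat _))
    (isNat_mul_left _ (S.nat _)))

omit [IsLb p k] in
lemma s_mul_iota (a : E.O) (b : H.O) : Dv k p (s (a * ι b) - s a * b) := by
  have h1 := S.s_mul a (ι b)
  have h2 := (S.s_iota b).mul_left (s a)
  have h3 := h1.add h2
  have : s (a * ι b) - s a * b = s (a * ι b) - s a * s (ι b) + s a * (s (ι b) - b) := by ring
  rwa [this]

lemma s_counit (a : E.O) : Dv k p (Coalgebra.counit (R := k) (s a) - Coalgebra.counit (R := k) a) := by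
  apply dvd_of_isNat_base
  have h := isNat_map (Bialgebra.counitAlgHom k E.O).toRingHom (S.nat a)
  have h1 : (Bialgebra.counitAlgHom k E.O).toRingHom (a - ι (s a)) =
      Coalgebra.counit (R := k) a - Coalgebra.counit (R := k) (s a) := by
    rw [map_sub]
    congr 1
    exact CoalgHomClass.counit_comp_apply ι (s a)
  rw [h1] at h
  have := isNat_neg h
  rwa [neg_sub] at this

omit [IsLb p k] in
lemma nat_two (w : E.O ⊗[k] E.O) :
    IsNat (w - Algebra.TensorProduct.map (ι : H.O →ₐ[k] E.O) (ι : H.O →ₐ[k] E.O)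
      (TensorProduct.map s s w)) := by
  induction w using TensorProduct.induction_on with
  | zero => simpa using (isNat_zero (A := E.O ⊗[k] E.O))
  | add x y hx hy =>
    have := isNat_add hx hy
    rw [map_add, map_add]
    convert this using 1
    ring
  | tmul x y =>
    rw [TensorProduct.map_tmul, Algebra.TensorProduct.map_tmul]
    have : x ⊗ₜ[k] y - (ι : H.O →ₐ[k] E.O) (s x) ⊗ₜ[k] (ι : H.O →ₐ[k] E.O) (s y) =
        Algebra.TensorProduct.includeLeft (R := k) (S := k) (x - ι (s x)) * (1 ⊗ₜ y) +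
        (ι (s x) ⊗ₜ 1) * Algebra.TensorProduct.includeRight (R := k) (A := E.O) (y - ι (s y)) := by
      simp only [Algebra.TensorProduct.includeLeft_apply, Algebra.TensorProduct.includeRight_apply,
        TensorProduct.sub_tmul, TensorProduct.tmul_sub, sub_mul, mul_sub,
        Algebra.TensorProduct.tmul_mul_tmul, one_mul, mul_one]
      have e1 : (ι : H.O →ₐ[k] E.O) (s x) = ι (s x) := rfl
      have e2 : (ι : H.O →ₐ[k] E.O) (s y) = ι (s y) := rfl
      rw [e1, e2]
      abel
    rw [this]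
    exact isNat_add (isNat_mul_right _ (isNat_map
      (Algebra.TensorProduct.includeLeft (R := k) (S := k) (A := E.O) (B := E.O)).toRingHom (S.nat x)))
      (isNat_mul_left _ (isNat_map
        (Algebra.TensorProduct.includeRight (R := k) (A := E.O) (B := E.O)).toRingHom (S.nat y)))

omit [IsLb p k] in
lemma s_comul (a : E.O) : Dv k p (TensorProduct.map s s (Coalgebra.comul (R := k) a) -
    Coalgebra.comul (R := k) (s a)) := by
  apply S.d2
  have h1 : Algebra.TensorProduct.map (ι : H.O →ₐ[k] E.O) (ι : H.O →ₐ[k] E.O)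
      (Coalgebra.comul (R := k) (s a)) = Coalgebra.comul (R := k) (ι (s a)) :=
    CoalgHomClass.map_comp_comul_apply ι (s a)
  rw [map_sub, h1]
  have h2 := isNat_map (Bialgebra.comulAlgHom k E.O).toRingHom (S.nat a)
  have h3 : (Bialgebra.comulAlgHom k E.O).toRingHom (a - ι (s a)) =
      Coalgebra.comul (R := k) a - Coalgebra.comul (R := k) (ι (s a)) := by
    rw [map_sub]; rfl
  rw [h3] at h2
  have h4 := isNat_sub h2 (S.nat_two (Coalgebra.comul (R := k) a))
  convert h4 using 1
  ring

omit [IsLb p k] in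
lemma s_redComul (a : E.O) : Dv k p (TensorProduct.map s s (Hoch.redComul k E.O a) -
    Hoch.redComul k H.O (s a)) := by
  rw [Hoch.redComul_apply, Hoch.redComul_apply, map_sub, map_sub, TensorProduct.map_tmul,
    TensorProduct.map_tmul]
  have h1 := S.s_comul a
  have h2 : Dv k p (s a ⊗ₜ[k] s 1 - s a ⊗ₜ[k] (1 : H.O)) := by
    rw [← TensorProduct.tmul_sub]
    exact S.s_one.map (TensorProduct.mk k H.O H.O (s a))
  have h3 : Dv k p (s 1 ⊗ₜ[k] s a - (1 : H.O) ⊗ₜ[k] s a) := by
    rw [← TensorProduct.sub_tmul]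
    exact S.s_one.map ((TensorProduct.mk k H.O H.O).flip (s a))
  have h4 := (h1.sub h2).sub h3
  convert h4 using 1
  abel

end Sec

end Sec

end Groth.Agent.ResProp.EF.K40
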